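import Cfsg.Agent.Lib.LyDC.Bridge

/-!
The double coset machinery applied to the presented Lyons group.
-/

set_option autoImplicit false

namespace Cfsg.Agent.Lib.LyBridge55

open Cfsg.Agent.Lib.LyMult97 (gg genVal)
open Cfsg Cfsg.Spor

/-- The order of the permutation group. -/
theorem card_Hbar : Nat.card LyDC.Hbar = 5859000000 := LyDC.card_Hbar

/-- Four points form a base. -/
theorem baseInj : LyDC.BaseInj := LyDC.baseInj

/-- `LyDC.Hbar` maps onto every group generated by four elements with the relations 1-44. -/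
theorem exists_hom {G : Type*} [Group G] {a b c d : G} (h : LyH.LyRel a b c d) :
    ∃ φ : LyDC.Hbar →* G, φ (LyDC.rep.f 0) = a ∧ φ (LyDC.rep.f 2) = b ∧ φ (LyDC.rep.f 4) = c ∧
      φ (LyDC.rep.f 6) = d ∧ φ.range = Subgroup.closure {a, b, c, d} := LyDC.exists_hom h

theorem lyRel_gg : LyH.LyRel (gg .a) (gg .b) (gg .c) (gg .d) := by
  simpa using (LyH.lyRel_of_extra (FreeGroup.lift gg) fun r hr => LyMult97.rel_one hr).1

theorem relsHold_gg : LyDC.RelsHold (gg .a) (gg .b) (gg .c) (gg .d) (gg .z) := by
  intro i _ _ r hr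
  rw [← funext LyMult97.gg_eq]
  exact LyMult97.rel_at i hr

/-- the map of the permutation group into the presented Lyons group -/
noncomputable def lyHom : LyDC.Hbar →* Ly := (exists_hom lyRel_gg).choose

theorem lyMaps : LyDC.Maps lyHom (gg .a) (gg .b) (gg .c) (gg .d) :=
  have h := (exists_hom lyRel_gg).choose_spec
  ⟨h.1, h.2.1, h.2.2.1, h.2.2.2.1⟩

theorem lyHom_range : lyHom.range = Subgroup.closure {gg .a, gg .b, gg .c, gg .d} :=
  (exists_hom lyRel_gg).choose_spec.2.2.2.2

/-- the data of the derivation in the presented Lyons group -/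
noncomputable def lyCtx : LyDC.Ctx Ly := LyDC.ctxOf baseInj lyMaps relsHold_gg

theorem closure_five : Subgroup.closure ({gg .a, gg .b, gg .c, gg .d, gg .z} : Set Ly) = ⊤ := by
  rw [← top_le_iff, ← LyMult97.closure_range_gg, Subgroup.closure_le]
  rintro _ ⟨x, rfl⟩
  set K := Subgroup.closure ({gg .a, gg .b, gg .c, gg .d, gg .z} : Set Ly)
  have ha : gg .a ∈ K := Subgroup.subset_closure (by simp)
  have hb : gg .b ∈ K := Subgroup.subset_closure (by simp)
  have hc : gg .c ∈ K := Subgroup.subset_closure (by simp)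
  have hd : gg .d ∈ K := Subgroup.subset_closure (by simp)
  have hz : gg .z ∈ K := Subgroup.subset_closure (by simp)
  show gg x ∈ K
  rw [LyMult97.gg_eq]
  cases x <;> simp only [LyMult97.genVal] <;>
    repeat' first
      | assumption | apply K.mul_mem | apply K.inv_mem | apply K.pow_mem

theorem lyCtx_gen : Subgroup.closure ((lyCtx.φ.range : Set Ly) ∪ {lyCtx.z}) = ⊤ :=
  LyDC.gen_top baseInj lyMaps relsHold_gg closure_five

/-- The upper bound. -/
theorem card_le : Finite Ly ∧ Nat.card Ly ≤ 51765179004000000 := lyCtx.card_le card_Hbar lyCtx_gen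

/-- At full order the map of the permutation group is injective. -/
theorem lyHom_injective (h : 51765179004000000 ≤ Nat.card Ly) : Function.Injective lyHom := by
  have := card_le.1
  obtain ⟨-, hi⟩ := lyCtx.index_le card_Hbar lyCtx_gen
  have hm : lyCtx.φ.range.index * Nat.card lyCtx.φ.range = Nat.card Ly := Subgroup.index_mul_card _
  have hge : 5859000000 ≤ Nat.card lyCtx.φ.range := by
    by_contra hlt
    rw [← hm] at h
    have := Nat.mul_le_mul hi (le_of_lt (Nat.lt_of_not_le hlt))
    have h2 : lyCtx.φ.range.index * Nat.card lyCtx.φ.range ≤ 8835156 * 5858999999 :=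
      Nat.mul_le_mul hi (by omega)
    omega
  have hb : Function.Bijective lyHom.rangeRestrict :=
    Function.Surjective.bijective_of_nat_card_le lyHom.rangeRestrict_surjective
      (card_Hbar.trans_le hge)
  intro x y hxy
  exact hb.1 (Subtype.ext hxy)

end Cfsg.Agent.Lib.LyBridge55
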